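import Cfsg.Agent.Lib.Suzuki.Centralizers
import Cfsg.Agent.Lib.Schur.Sylow

/-!
# The Schur multiplier of the Suzuki groups with `q > 8` is trivial
-/

set_option autoImplicit false

namespace Cfsg.Agent.Lib.Suzuki

open scoped commutatorElement Pointwise
open Polynomial

variable {F : Type*} [Field F] {m : ℕ} [Fintype F]

/-- A biadditive map which is invariant under a sufficiently twisted scaling is trivial. -/
theorem pairing_trivial {Γ : Type*} [Group Γ] (h : Hyp F m) (e : F → F → Γ)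
    (hl : ∀ a b c, e (a + b) c = e a c * e b c) (hr : ∀ a c d, e a (c + d) = e a c * e a d)
    (M : F → F) (hM : M 1 = 1) (hinv : ∀ a, a ≠ 0 → ∀ c, e a c = e 1 (c / M a))
    (hk : ∃ a, a ≠ 0 ∧ a + 1 ≠ 0 ∧ (M (a + 1))⁻¹ ≠ (M a)⁻¹ + 1) (a c : F) : e a c = 1 := by
  have h0 : e 1 0 = 1 := mul_eq_left.1 ((hr 1 0 0).symm.trans (by rw [add_zero]))
  obtain ⟨a₀, ha, ha1, hk⟩ := hk
  have hφ : ∀ x, e 1 x = 1 := by
    intro x
    set k := (M (a₀ + 1))⁻¹ + ((M a₀)⁻¹ + 1) with hkdef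
    have hk0 : k ≠ 0 := fun e' => hk (by linear_combination e' - ((M a₀)⁻¹ + 1) * h.two)
    have hy : ∀ y, e 1 (y * k) = 1 := by
      intro y
      have h1 : e 1 (y / M (a₀ + 1)) = e 1 (y / M a₀ + y) := by
        rw [← hinv _ ha1 y, hl, hinv _ ha y, hr]
      rw [show y * k = y / M (a₀ + 1) + (y / M a₀ + y) by
        rw [hkdef, div_eq_mul_inv, div_eq_mul_inv]; ring, hr, h1, ← hr, h.add_self, h0]
    have := hy (x / k)
    rwa [div_mul_cancel₀ x hk0] at this
  rcases eq_or_ne a 0 with rfl | ha'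
  · exact mul_eq_left.1 ((hl 0 0 c).symm.trans (by rw [add_zero]))
  · rw [hinv a ha' c, hφ]

theorem exists_not_linear (h : Hyp F m) : ∃ a : F, a ≠ 0 ∧ a + 1 ≠ 0 ∧ (a + 1)⁻¹ ≠ a⁻¹ + 1 := by
  classical
  by_contra hc
  push Not at hc
  have hsub : (Finset.univ.erase (0 : F)).erase 1 ⊆ (X ^ 2 + X + 1 : F[X]).roots.toFinset := by
    intro a ha
    simp only [Finset.mem_erase, Finset.mem_univ, and_true] at ha
    have ha1 : a + 1 ≠ 0 := fun e => ha.1 (by linear_combination e - h.two)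
    have e := hc a ha.2 ha1
    have e2 : a = (a + 1) + a * (a + 1) := by
      linear_combination (a * (a + 1)) * e - a * mul_inv_cancel₀ ha1 +
        (a + 1) * mul_inv_cancel₀ ha.2
    have hne : (X ^ 2 + X + 1 : F[X]) ≠ 0 := fun e' => by
      have := congrArg (Polynomial.coeff · 0) e'
      simp at this
    simp only [Multiset.mem_toFinset, Polynomial.mem_roots hne, IsRoot, eval_add, eval_pow, eval_X,
      eval_one]
    have h2 := h.two
    linear_combination -e2
  have hdeg : (X ^ 2 + X + 1 : F[X]).natDegree ≤ 2 := by compute_degree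
  have h1 := (Finset.card_le_card hsub).trans ((Multiset.toFinset_card_le _).trans
    ((Polynomial.card_roots' _).trans hdeg))
  rw [Finset.card_erase_of_mem (by simp), Finset.card_erase_of_mem (Finset.mem_univ _),
    Finset.card_univ] at h1
  have := h.sigma_add_two_lt
  have : 2 ≤ 2 ^ (m + 1) := le_self_pow₀ (by norm_num) (by omega)
  have := h.hm
  have : 2 ^ 3 ≤ Fintype.card F := by
    rw [h.hF]; exact Nat.pow_le_pow_right (by norm_num) (by omega)
  omega

theorem exists_not_twisted (h : Hyp F m) (hm : 2 ≤ m) : ∃ a : F, a ≠ 0 ∧ a + 1 ≠ 0 ∧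
    (theta m (a + 1) * (a + 1))⁻¹ ≠ (theta m a * a)⁻¹ + 1 := by
  classical
  set k := 2 ^ (m + 1) with hkdef
  have hk8 : 8 ≤ k := by
    calc 8 = 2 ^ 3 := rfl
      _ ≤ k := Nat.pow_le_pow_right (by norm_num) (by omega)
  by_contra hc
  push Not at hc
  set P : F[X] := X ^ (2 * k + 2) + X ^ (2 * k + 1) + X ^ (k + 2) + X ^ (k + 1) + X ^ k + X + 1
    with hP
  have hsub : (Finset.univ.erase (0 : F)).erase 1 ⊆ P.roots.toFinset := by
    intro a ha
    simp only [Finset.mem_erase, Finset.mem_univ, and_true] at ha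
    have ha1 : a + 1 ≠ 0 := fun e => ha.1 (by linear_combination e - h.two)
    have e := hc a ha.2 ha1
    have hne : P ≠ 0 := fun e' => by
      have := congrArg (Polynomial.coeff · 0) e'
      simp [hP, coeff_X_pow, show 0 ≠ k by omega] at this
    have hθ : theta m a = a ^ k := rfl
    rw [h.theta_add, theta_one, hθ] at e
    have hθ0 : a ^ k ≠ 0 := pow_ne_zero _ ha.2
    have hθ1 : a ^ k + 1 ≠ 0 := by
      rw [← hθ, ← theta_one (F := F) (m := m), ← h.theta_add]
      exact theta_ne_zero ha1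
    have e2 : a ^ k * a = (a ^ k + 1) * (a + 1) + a ^ k * a * ((a ^ k + 1) * (a + 1)) := by
      linear_combination (a ^ k * a * ((a ^ k + 1) * (a + 1))) * e -
        (a ^ k * a) * mul_inv_cancel₀ (mul_ne_zero hθ1 ha1) +
        ((a ^ k + 1) * (a + 1)) * mul_inv_cancel₀ (mul_ne_zero hθ0 ha.2)
    rw [Multiset.mem_toFinset, Polynomial.mem_roots hne, hP]
    simp only [IsRoot, eval_add, eval_pow, eval_X, eval_one]
    have h2 := h.two
    linear_combination -e2
  have hdeg : P.natDegree ≤ 2 * k + 2 := by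
    rw [hP]; compute_degree <;> omega
  have h1 := (Finset.card_le_card hsub).trans ((Multiset.toFinset_card_le _).trans
    ((Polynomial.card_roots' _).trans hdeg))
  rw [Finset.card_erase_of_mem (by simp), Finset.card_erase_of_mem (Finset.mem_univ _),
    Finset.card_univ, h.hF] at h1
  have : k * k = 2 * 2 ^ (2 * m + 1) := by
    rw [hkdef, ← pow_add, ← pow_succ']; congr 1; omega
  have : 2 ^ (2 * m + 1) ≤ 2 * k + 4 := by omega
  nlinarith

section Extension

variable (h : Hyp F m) {Γ : Type*} [Group Γ] {σ : Γ →* Cfsg.Sz F m}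

include h in
/-- In a central extension the commutator subgroup of the preimage of the translations meets the
kernel trivially. -/
theorem commutator_preimage_inf_ker (hm : 2 ≤ m) (hs : Function.Surjective σ)
    (hc : σ.ker ≤ Subgroup.center Γ) :
    ⁅(transl h).comap σ, (transl h).comap σ⁆ ⊓ σ.ker = ⊥ := by
  classical
  have := h.charP
  have hcen : ∀ z, σ z = 1 → ∀ g, Commute g z := fun z hz g => Subgroup.mem_center_iff.1 (hc hz) g
  -- commutators and conjugates depend only on images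
  have hwd : ∀ a a' b b', σ a = σ a' → σ b = σ b' → ⁅a, b⁆ = ⁅a', b'⁆ := by
    intro a a' b b' ha hb
    obtain ⟨z, hz, rfl⟩ : ∃ z, σ z = 1 ∧ a = a' * z :=
      ⟨a'⁻¹ * a, by rw [map_mul, map_inv, ha, inv_mul_cancel], (mul_inv_cancel_left a' a).symm⟩
    obtain ⟨y, hy, rfl⟩ : ∃ y, σ y = 1 ∧ b = b' * y :=
      ⟨b'⁻¹ * b, by rw [map_mul, map_inv, hb, inv_mul_cancel], (mul_inv_cancel_left b' b).symm⟩
    exact Cfsg.Agent.Lib.Schur.commutatorElement_mul_central a' b' (hc hz) (hc hy)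
  have hmulL : ∀ a b c : Γ, Commute ⁅b, c⁆ a → ⁅a * b, c⁆ = ⁅b, c⁆ * ⁅a, c⁆ := by
    intro a b c hbc
    rw [show ⁅a * b, c⁆ = a * ⁅b, c⁆ * a⁻¹ * ⁅a, c⁆ by simp only [commutatorElement_def]; group,
      hbc.symm.eq, mul_inv_cancel_right]
  have hmulR : ∀ a b c : Γ, Commute ⁅a, c⁆ b → ⁅a, b * c⁆ = ⁅a, b⁆ * ⁅a, c⁆ := by
    intro a b c hac
    rw [show ⁅a, b * c⁆ = ⁅a, b⁆ * (b * ⁅a, c⁆ * b⁻¹) by simp only [commutatorElement_def]; group,
      hac.symm.eq, mul_inv_cancel_right]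
  let L : F → F → Γ := fun a b => Function.surjInv hs (szT h a b)
  have hL : ∀ a b, σ (L a b) = szT h a b := fun a b => Function.surjInv_eq hs _
  let H : Fˣ → Γ := fun u => Function.surjInv hs (szH h u)
  have hH : ∀ u, σ (H u) = szH h u := fun u => Function.surjInv_eq hs _
  have hconj : ∀ u a b, σ (H u * L a b * (H u)⁻¹) =
      szT h (theta m (u : F) * a) ((u : F) ^ 2 * theta m (u : F) * b) := by
    intro u a b
    rw [map_mul, map_mul, map_inv, hH, hL, szH_mul_szT, mul_inv_cancel_right]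
  have hN : ∀ y : F, y ≠ 0 → ∃ u : Fˣ, (u : F) ^ 2 * theta m (u : F) = y := by
    intro y hy
    let N : Fˣ → Fˣ := fun u => Units.mk0 ((u : F) ^ 2 * theta m (u : F))
      (mul_ne_zero (pow_ne_zero _ u.ne_zero) (theta_ne_zero u.ne_zero))
    have hinj : Function.Injective N := by
      intro u v e
      have e' : (u : F) ^ 2 * theta m (u : F) = (v : F) ^ 2 * theta m (v : F) := congrArg Units.val e
      have := theta_ne_zero (m := m) v.ne_zero
      have := v.ne_zero
      have h1 := h.eq_one_of_theta_mul_sq (u := (u : F) / v) (div_ne_zero u.ne_zero v.ne_zero) (by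
        rw [div_eq_mul_inv, theta_mul, theta_inv, mul_pow, inv_pow]
        field_simp
        linear_combination e')
      exact Units.ext ((div_eq_one_iff_eq v.ne_zero).1 h1)
    obtain ⟨u, hu⟩ := Finite.surjective_of_injective hinj (Units.mk0 y hy)
    exact ⟨u, congrArg Units.val hu⟩
  -- preimages of the centre commute with each other
  have hWW : ∀ b c, ⁅L 0 b, L 0 c⁆ = 1 := by
    have hker : ∀ b c, σ ⁅L 0 b, L 0 c⁆ = 1 := fun b c => by
      rw [map_commutatorElement, hL, hL, commutatorElement_eq_one_iff_mul_comm]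
      simp [szT_mul, add_comm, theta_zero]
    refine pairing_trivial h (fun b c => ⁅L 0 b, L 0 c⁆) ?_ ?_ id rfl ?_ (exists_not_linear h)
    · intro a b c
      rw [← ((hcen _ (hker b c) _).symm.eq), ← hmulL _ _ _ (hcen _ (hker b c) _).symm]
      exact hwd _ _ _ _ (by simp [hL, szT_mul, theta_zero]) rfl
    · intro a c d
      rw [← hmulR _ _ _ (hcen _ (hker a d) _).symm]
      exact hwd _ _ _ _ rfl (by simp [hL, szT_mul, theta_zero])
    · intro a ha c
      obtain ⟨u, rfl⟩ := hN a ha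
      calc ⁅L 0 _, L 0 c⁆ = ⁅H u * L 0 1 * (H u)⁻¹, H u * L 0 (c / ((u : F) ^ 2 * theta m (u : F))) * (H u)⁻¹⁆ := by
            refine hwd _ _ _ _ ?_ ?_
            · rw [hconj, hL, mul_zero, mul_one]
            · rw [hconj, hL, mul_zero, mul_div_cancel₀ c ha]
        _ = H u * ⁅L 0 1, L 0 (c / ((u : F) ^ 2 * theta m (u : F)))⁆ * (H u)⁻¹ := by simp only [commutatorElement_def]; group
        _ = _ := by rw [(hcen _ (hker _ _) (H u)).eq, mul_inv_cancel_right]; rfl
  -- and are central in the preimage of the translations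
  have hWV : ∀ a c, ⁅L a 0, L 0 c⁆ = 1 := by
    have hker : ∀ a b c, σ ⁅L a b, L 0 c⁆ = 1 := fun a b c => by
      rw [map_commutatorElement, hL, hL, commutatorElement_eq_one_iff_mul_comm]
      simp [szT_mul, add_comm, theta_zero]
    have hdrop : ∀ a b c, ⁅L a b, L 0 c⁆ = ⁅L a 0, L 0 c⁆ := fun a b c => by
      rw [hwd (L a b) (L a 0 * L 0 b) (L 0 c) (L 0 c) (by simp [hL, szT_mul]) rfl,
        hmulL _ _ _ (by rw [hWW]; exact Commute.one_left _), hWW, one_mul]
    refine pairing_trivial h (fun a c => ⁅L a 0, L 0 c⁆) ?_ ?_ (fun a => theta m a * a)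
      (by simp [theta_one]) ?_ (exists_not_twisted h hm)
    · intro a b c
      rw [← ((hcen _ (hker b 0 c) _).symm.eq), ← hmulL _ _ _ (hcen _ (hker b 0 c) _).symm,
        ← hdrop (a + b) (theta m a * b) c]
      exact hwd _ _ _ _ (by simp [hL, szT_mul]) rfl
    · intro a c d
      rw [← hmulR _ _ _ (hcen _ (hker a 0 d) _).symm]
      exact hwd _ _ _ _ rfl (by simp [hL, szT_mul, theta_zero])
    · intro a ha c
      obtain ⟨y, rfl⟩ := h.theta_surjective a
      have hy : y ≠ 0 := fun e => ha (by rw [e, theta_zero])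
      set u := Units.mk0 y hy with hu
      have hd : theta m (theta m y) * theta m y = (u : F) ^ 2 * theta m (u : F) := by
        rw [h.theta_theta, hu, Units.val_mk0]
      have hne : theta m (theta m y) * theta m y ≠ 0 :=
        mul_ne_zero (theta_ne_zero ha) ha
      calc ⁅L (theta m y) 0, L 0 c⁆ =
          ⁅H u * L 1 0 * (H u)⁻¹, H u * L 0 (c / (theta m (theta m y) * theta m y)) * (H u)⁻¹⁆ := by
            refine hwd _ _ _ _ ?_ ?_
            · rw [hconj, hL, mul_zero, mul_one, hu, Units.val_mk0]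
            · rw [hconj, hL, mul_zero, ← hd, mul_div_cancel₀ c hne]
        _ = H u * ⁅L 1 0, L 0 (c / (theta m (theta m y) * theta m y))⁆ * (H u)⁻¹ := by
            simp only [commutatorElement_def]; group
        _ = _ := by rw [(hcen _ (hker _ _ _) (H u)).eq, mul_inv_cancel_right]
  have hcom : ∀ a b c, Commute (L 0 c) (L a b) := fun a b c => by
    have h1 : ⁅L a b, L 0 c⁆ = 1 := by
      rw [hwd (L a b) (L a 0 * L 0 b) (L 0 c) (L 0 c) (by simp [hL, szT_mul]) rfl,
        hmulL _ _ _ (by rw [hWW]; exact Commute.one_left _), hWW, hWV, one_mul]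
    exact (commutatorElement_eq_one_iff_mul_comm.1 h1).symm
  have hWcen : ∀ w, (∃ c, σ w = szT h 0 c) → ∀ g, σ g ∈ transl h → Commute w g := by
    rintro w ⟨c, hw⟩ g hg
    obtain ⟨a, b, hg⟩ := (mem_transl h).1 hg
    obtain ⟨z, hz, rfl⟩ : ∃ z, σ z = 1 ∧ w = L 0 c * z :=
      ⟨(L 0 c)⁻¹ * w, by rw [map_mul, map_inv, hL, hw, inv_mul_cancel],
        (mul_inv_cancel_left _ w).symm⟩
    obtain ⟨y, hy, rfl⟩ : ∃ y, σ y = 1 ∧ g = L a b * y :=
      ⟨(L a b)⁻¹ * g, by rw [map_mul, map_inv, hL, hg, inv_mul_cancel],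
        (mul_inv_cancel_left _ g).symm⟩
    exact ((hcom a b c).mul_right (hcen y hy _)).mul_left ((hcen z hz _).symm)
  -- the canonical section over the centre
  obtain ⟨u₁, hu₁'⟩ := exists_unit_ne_one h
  set d := (u₁ : F) ^ 2 * theta m (u₁ : F) + 1 with hd
  have hd0 : d ≠ 0 := fun e => hu₁' (h.eq_one_of_theta_mul_sq u₁.ne_zero
    (by linear_combination e - h.two))
  let s : F → Γ := fun c => ⁅H u₁, L 0 (c / d)⁆
  have hsσ : ∀ c, σ (s c) = szT h 0 c := by
    intro c
    show σ ⁅H u₁, L 0 (c / d)⁆ = _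
    rw [commutatorElement_def, map_mul, map_mul, map_mul, map_inv, map_inv, hH, hL, szH_mul_szT,
      mul_inv_cancel_right, szT_inv, szT_mul]
    simp only [mul_zero, theta_zero, zero_mul, add_zero]
    congr 1
    field_simp
    rw [hd]
  have hsadd : ∀ c c', s (c + c') = s c * s c' := by
    intro c c'
    show ⁅H u₁, L 0 ((c + c') / d)⁆ = _
    rw [hwd (H u₁) (H u₁) (L 0 ((c + c') / d)) (L 0 (c / d) * L 0 (c' / d)) rfl
      (by simp [hL, szT_mul, theta_zero, add_div]), hmulR _ _ _ ?_]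
    exact hWcen _ ⟨c', hsσ c'⟩ _ (by rw [hL]; exact szT_mem_transl h _ _)
  have hsconj : ∀ u c, H u * s c * (H u)⁻¹ = s ((u : F) ^ 2 * theta m (u : F) * c) := by
    intro u c
    show H u * ⁅H u₁, L 0 (c / d)⁆ * (H u)⁻¹ = _
    rw [show H u * ⁅H u₁, L 0 (c / d)⁆ * (H u)⁻¹ =
      ⁅H u * H u₁ * (H u)⁻¹, H u * L 0 (c / d) * (H u)⁻¹⁆ by simp only [commutatorElement_def]; group]
    refine hwd _ _ _ _ ?_ ?_
    · rw [map_mul, map_mul, map_inv, hH, hH, szH_mul, mul_comm u, ← szH_mul, mul_inv_cancel_right]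
    · rw [hconj, hL, mul_zero, mul_div_assoc]
  -- the commutator of two lifts
  have hVσ : ∀ a a', σ ⁅L a 0, L a' 0⁆ = szT h 0 (theta m a * a' + theta m a' * a) := by
    intro a a'
    rw [commutatorElement_def, map_mul, map_mul, map_mul, map_inv, map_inv, hL, hL, szT_inv,
      szT_inv, szT_mul, szT_mul, szT_mul]
    congr 1
    · linear_combination (a + a') * h.two
    · simp only [h.theta_add]
      linear_combination (theta m a * a + theta m a' * a' + theta m a * a') * h.two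
  have hbil : ∀ a b c, ⁅L (a + b) 0, L c 0⁆ = ⁅L a 0, L c 0⁆ * ⁅L b 0, L c 0⁆ := by
    intro a b c
    have h1 : ⁅L (a + b) 0, L c 0⁆ = ⁅L a 0 * L b 0, L c 0⁆ := by
      rw [hwd (L (a + b) 0) (L a 0 * L b 0 * L 0 (theta m a * b)) (L c 0) (L c 0)
        (by simp [hL, szT_mul, h.add_self]) rfl]
      have hc1 : ⁅L 0 (theta m a * b), L c 0⁆ = 1 :=
        commutatorElement_eq_one_iff_mul_comm.2 (hcom c 0 _)
      rw [hmulL _ _ _ (by rw [hc1]; exact Commute.one_left _), hc1, one_mul]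
    rw [h1, hmulL _ _ _ (hWcen _ ⟨_, hVσ b c⟩ _ (by rw [hL]; exact szT_mem_transl h _ _))]
    exact (hWcen _ ⟨_, hVσ b c⟩ _ (by rw [hVσ]; exact szT_mem_transl h _ _)).eq
  let e : F → F → Γ := fun a a' => ⁅L a 0, L a' 0⁆ * (s (theta m a * a' + theta m a' * a))⁻¹
  have hek : ∀ a a', σ (e a a') = 1 := fun a a' => by
    show σ (⁅L a 0, L a' 0⁆ * (s _)⁻¹) = 1
    rw [map_mul, map_inv, hVσ, hsσ, mul_inv_cancel]
  have hel : ∀ a b c, e (a + b) c = e a c * e b c := by
    intro a b c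
    show ⁅L (a + b) 0, L c 0⁆ * (s _)⁻¹ = _
    rw [hbil, show theta m (a + b) * c + theta m c * (a + b) =
      (theta m b * c + theta m c * b) + (theta m a * c + theta m c * a) by
        rw [h.theta_add]; ring, hsadd, mul_inv_rev]
    show _ = ⁅L a 0, L c 0⁆ * (s _)⁻¹ * (⁅L b 0, L c 0⁆ * (s _)⁻¹)
    have := hcen _ (hek b c) (s (theta m a * c + theta m c * a))⁻¹
    calc ⁅L a 0, L c 0⁆ * ⁅L b 0, L c 0⁆ *
          ((s (theta m a * c + theta m c * a))⁻¹ * (s (theta m b * c + theta m c * b))⁻¹)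
        = ⁅L a 0, L c 0⁆ * (⁅L b 0, L c 0⁆ * ((s (theta m b * c + theta m c * b))⁻¹ *
          (s (theta m a * c + theta m c * a))⁻¹)) := by
          rw [mul_assoc, ← mul_inv_rev, ← mul_inv_rev, ← hsadd, ← hsadd, add_comm]
      _ = ⁅L a 0, L c 0⁆ * (e b c * (s (theta m a * c + theta m c * a))⁻¹) := by
          simp only [e, mul_assoc]
      _ = _ := by rw [← this.eq]; simp only [e, mul_assoc]
  have hesym : ∀ a a', e a' a = (e a a')⁻¹ := by
    intro a a'
    show ⁅L a' 0, L a 0⁆ * (s _)⁻¹ = (⁅L a 0, L a' 0⁆ * (s _)⁻¹)⁻¹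
    have h0 : s 0 = 1 := mul_eq_left.1 ((hsadd 0 0).symm.trans (by rw [add_zero]))
    have hsinv : ∀ x, (s x)⁻¹ = s x := fun x =>
      inv_eq_of_mul_eq_one_right (by rw [← hsadd, h.add_self, h0])
    rw [hsinv, hsinv, mul_inv_rev, hsinv, commutatorElement_inv, add_comm]
    exact (hWcen _ ⟨_, hsσ _⟩ _ (by rw [hVσ]; exact szT_mem_transl h _ _)).symm.eq
  have her : ∀ a c d, e a (c + d) = e a c * e a d := by
    intro a c d
    rw [hesym (c + d) a, hel, mul_inv_rev, ← hesym, ← hesym]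
    exact ((hcen _ (hek a c)) _).eq
  have heinv : ∀ a, a ≠ 0 → ∀ c, e a c = e 1 (c / id a) := by
    intro a ha c
    obtain ⟨y, rfl⟩ := h.theta_surjective a
    have hy : y ≠ 0 := fun e => ha (by rw [e, theta_zero])
    set u := Units.mk0 y hy with hu
    have hu' : (u : F) = y := rfl
    calc e (theta m y) c = H u * e 1 (c / theta m y) * (H u)⁻¹ := ?_
      _ = e 1 (c / theta m y) := by rw [(hcen _ (hek _ _) (H u)).eq, mul_inv_cancel_right]
    show ⁅L (theta m y) 0, L c 0⁆ * (s _)⁻¹ =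
      H u * (⁅L 1 0, L (c / theta m y) 0⁆ * (s _)⁻¹) * (H u)⁻¹
    rw [show ∀ p q : Γ, H u * (p * q⁻¹) * (H u)⁻¹ =
      H u * p * (H u)⁻¹ * (H u * q * (H u)⁻¹)⁻¹ by intro p q; group, hsconj]
    congr 1
    · rw [show H u * ⁅L 1 0, L (c / theta m y) 0⁆ * (H u)⁻¹ =
        ⁅H u * L 1 0 * (H u)⁻¹, H u * L (c / theta m y) 0 * (H u)⁻¹⁆ by
          simp only [commutatorElement_def]; group]
      refine hwd _ _ _ _ ?_ ?_
      · rw [hconj, hL, mul_zero, mul_one, hu']
      · rw [hconj, hL, mul_zero, hu', mul_div_cancel₀ c ha]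
    · congr 2
      have := theta_ne_zero (m := m) ha
      rw [hu', theta_one, h.theta_theta, div_eq_mul_inv, theta_mul, theta_inv, h.theta_theta]
      field_simp
  have heone : ∀ a c, e a c = 1 := pairing_trivial h e hel her id rfl heinv (exists_not_linear h)
  -- conclusion
  let W₀ : Subgroup Γ :=
    { carrier := Set.range s
      one_mem' := ⟨0, mul_eq_left.1 ((hsadd 0 0).symm.trans (by rw [add_zero]))⟩
      mul_mem' := by rintro _ _ ⟨c, rfl⟩ ⟨c', rfl⟩; exact ⟨c + c', hsadd c c'⟩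
      inv_mem' := by
        rintro _ ⟨c, rfl⟩
        exact ⟨c, (inv_eq_of_mul_eq_one_right (by
          rw [← hsadd, h.add_self]; exact mul_eq_left.1 ((hsadd 0 0).symm.trans (by rw [add_zero])))).symm⟩ }
  rw [eq_bot_iff]
  rintro x ⟨hx, hxk⟩
  have hle : ⁅(transl h).comap σ, (transl h).comap σ⁆ ≤ W₀ := by
    rw [Subgroup.commutator_le]
    intro g₁ hg₁ g₂ hg₂
    obtain ⟨a, b, ha⟩ := (mem_transl h).1 hg₁
    obtain ⟨a', b', ha'⟩ := (mem_transl h).1 hg₂
    have h1 : ⁅g₁, g₂⁆ = ⁅L a 0, L a' 0⁆ := by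
      have c0 : ∀ w g, (∃ c, σ w = szT h 0 c) → σ g ∈ transl h → ⁅w, g⁆ = 1 ∧ ⁅g, w⁆ = 1 :=
        fun w g hw hg => ⟨commutatorElement_eq_one_iff_mul_comm.2 (hWcen w hw g hg).eq,
          commutatorElement_eq_one_iff_mul_comm.2 (hWcen w hw g hg).symm.eq⟩
      have hb := c0 (L 0 b) (L a' 0 * L 0 b') ⟨b, hL _ _⟩ (by
        rw [map_mul, hL, hL]; exact mul_mem (szT_mem_transl h _ _) (szT_mem_transl h _ _))
      have hb' := c0 (L 0 b') (L a 0) ⟨b', hL _ _⟩ (by rw [hL]; exact szT_mem_transl h _ _)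
      rw [hwd g₁ (L a 0 * L 0 b) g₂ (L a' 0 * L 0 b') (by simp [ha, hL, szT_mul])
        (by simp [ha', hL, szT_mul]), hmulL _ _ _ (by rw [hb.1]; exact Commute.one_left _), hb.1,
        one_mul, hmulR _ _ _ (by rw [hb'.2]; exact Commute.one_left _), hb'.2, mul_one]
    exact ⟨theta m a * a' + theta m a' * a, by
      rw [h1]; exact (mul_inv_eq_one.1 (heone a a')).symm⟩
  obtain ⟨c, rfl⟩ := hle hx
  have hc0 : c = 0 := (szT_inj h (((hsσ c).symm.trans hxk).trans (szT_one h).symm)).2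
  rw [Subgroup.mem_bot, hc0]
  exact mul_eq_left.1 ((hsadd 0 0).symm.trans (by rw [add_zero]))

include h in
/-- The kernel of a stem extension has odd order. -/
theorem not_two_dvd_card_ker (hm : 2 ≤ m) [Finite Γ] (hσ : Cfsg.IsStemExtension σ) :
    ¬ 2 ∣ Nat.card σ.ker := by
  have : Fact (Nat.Prime 2) := ⟨Nat.prime_two⟩
  have hTp : IsPGroup 2 (transl h) := IsPGroup.of_card (n := (2 * m + 1) * 2) (by
    rw [card_transl, h.hF, ← pow_mul])
  obtain ⟨P, hP⟩ := hTp.exists_le_sylow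
  have hPT : (P : Subgroup (Cfsg.Sz F m)) = transl h :=
    (Subgroup.eq_of_le_of_card_ge hP (by rw [(sylow_two h P).1, card_transl, h.hF])).symm
  obtain ⟨Q₀⟩ : Nonempty (Sylow 2 Γ) := inferInstance
  obtain ⟨g, hg⟩ := MulAction.exists_smul_eq (Cfsg.Sz F m) (Q₀.mapSurjective hσ.1) P
  obtain ⟨g', rfl⟩ := hσ.1 g
  let Q := g' • Q₀
  have hQ : ∀ q ∈ (Q : Subgroup Γ), σ q ∈ transl h := by
    intro q hq
    rw [Sylow.coe_subgroup_smul, Subgroup.mem_pointwise_smul_iff_inv_smul_mem] at hq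
    rw [← hPT, ← hg, Sylow.coe_subgroup_smul, Subgroup.mem_pointwise_smul_iff_inv_smul_mem]
    refine ⟨_, hq, ?_⟩
    simp [MulAut.smul_def]
  refine Cfsg.Agent.Lib.Schur.not_dvd_card_ker hσ Q fun a ha hak => Subtype.ext ?_
  have h1 : (a : Γ) ∈ ⁅(transl h).comap σ, (transl h).comap σ⁆ := by
    have h2 : (a : Γ) ∈ (commutator (Q : Subgroup Γ)).map (Q : Subgroup Γ).subtype :=
      Subgroup.mem_map_of_mem _ ha
    rw [Subgroup.map_subtype_commutator] at h2
    exact Subgroup.commutator_mono (fun q hq => hQ q hq) (fun q hq => hQ q hq) h2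
  exact Subgroup.mem_bot.1 ((commutator_preimage_inf_ker h hm hσ.1 hσ.2.1).le ⟨h1, hak⟩)

end Extension

/-- The Schur multiplier of `Sz(q)`, `q > 8`, is trivial. -/
theorem hasCyclicSchurMultiplier_Sz (h : Hyp F m) (hm : 2 ≤ m) :
    Cfsg.HasCyclicSchurMultiplier (Cfsg.Sz F m) 1 := by
  refine Cfsg.Agent.Lib.Schur.hasCyclicSchurMultiplier_one_of_forall_prime _
    fun Γ _ _ σ hσ p hp => ?_
  have : Fact p.Prime := ⟨hp⟩
  rcases eq_or_ne p 2 with rfl | hp2
  · exact not_two_dvd_card_ker h hm hσ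
  · obtain ⟨P⟩ : Nonempty (Sylow p (Cfsg.Sz F m)) := inferInstance
    have := sylow_isCyclic h hp2 P
    exact Cfsg.Agent.Lib.Schur.not_dvd_card_ker_of_isCyclic hσ P

end Cfsg.Agent.Lib.Suzuki
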